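import Mathlib

set_option autoImplicit false

namespace Cfsg.Agent.Der

open MulAction

variable {G : Type*} [Group G]

/-- Burnside's lemma with `Nat.card`. -/
theorem burnside (G : Type*) [Group G] [Fintype G] (X : Type*) [MulAction G X] [Finite X] :
    ∑ g : G, Nat.card (fixedBy X g) = Nat.card (orbitRel.Quotient G X) * Nat.card G := by
  classical
  haveI := Fintype.ofFinite X
  have h := sum_card_fixedBy_eq_card_orbits_mul_card_group G X
  simp only [Nat.card_eq_fintype_card]
  convert h

theorem burnside_sub [Fintype G] (X : Type*) [MulAction G X] [Finite X] (D : Subgroup G)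
    [DecidablePred (· ∈ D)] :
    ∑ g ∈ Finset.univ.filter (· ∈ D), Nat.card (fixedBy X g) =
      Nat.card (orbitRel.Quotient D X) * Nat.card D := by
  rw [← burnside D X]
  rw [Finset.sum_subtype (Finset.univ.filter (· ∈ D)) (p := (· ∈ D)) (by simp)
    (fun g => Nat.card (fixedBy X g))]
  rfl

theorem card_fixedBy_prod (X : Type*) [MulAction G X] (g : G) :
    Nat.card (fixedBy (X × X) g) = Nat.card (fixedBy X g) ^ 2 := by
  rw [sq, ← Nat.card_prod]
  exact Nat.card_congr
    { toFun := fun z => (⟨z.1.1, congrArg Prod.fst z.2⟩, ⟨z.1.2, congrArg Prod.snd z.2⟩)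
      invFun := fun z => ⟨(z.1.1, z.2.1), Prod.ext z.1.2 z.2.2⟩
      left_inv := fun _ => rfl
      right_inv := fun _ => rfl }

/-- the subgroup generated by the derangements. -/
def der (G : Type*) [Group G] (X : Type*) [MulAction G X] : Subgroup G :=
  Subgroup.closure {g : G | ∀ ω : X, g • ω ≠ ω}

variable {X : Type*} [MulAction G X]

theorem one_le_of_not_mem [Finite X] {g : G} (hg : g ∉ der G X) : 1 ≤ Nat.card (fixedBy X g) := by
  have h1 : ¬ ∀ ω : X, g • ω ≠ ω := fun h => hg (Subgroup.subset_closure h)
  push Not at h1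
  obtain ⟨ω, hω⟩ := h1
  haveI : Nonempty (fixedBy X g) := ⟨⟨ω, hω⟩⟩
  exact Nat.card_pos

theorem card_quotient_of_transitive [IsPretransitive G X] [Nonempty X] :
    Nat.card (orbitRel.Quotient G X) = 1 := by
  have h := (pretransitive_iff_subsingleton_quotient G X).mp inferInstance
  haveI : Nonempty (orbitRel.Quotient G X) := ⟨Quotient.mk'' (Classical.arbitrary X)⟩
  exact Nat.card_eq_one_iff_unique.mpr ⟨h, inferInstance⟩

theorem card_filter_mem [Fintype G] (D : Subgroup G) [DecidablePred (· ∈ D)] :
    (Finset.univ.filter (· ∈ D)).card = Nat.card D := by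
  rw [Nat.card_eq_fintype_card, Fintype.card_subtype]

theorem card_filter_not_mem [Fintype G] (D : Subgroup G) [DecidablePred (· ∈ D)] :
    (Finset.univ.filter (· ∉ D)).card + Nat.card D = Nat.card G := by
  rw [← card_filter_mem D, add_comm, Finset.card_filter_add_card_filter_not,
    Nat.card_eq_fintype_card, Finset.card_univ]

/-- the derangement subgroup of a transitive group is transitive, and the elements outside it have
exactly one fixed point. -/
theorem core [Finite G] [Finite X] [IsPretransitive G X] [Nonempty X] :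
    Nat.card (orbitRel.Quotient (der G X) X) = 1 ∧
      ∀ g : G, g ∉ der G X → Nat.card (fixedBy X g) = 1 := by
  classical
  cases nonempty_fintype G
  have h1 := burnside G X
  rw [card_quotient_of_transitive, one_mul] at h1
  have h2 := burnside_sub X (der G X)
  have h3 := Finset.sum_filter_add_sum_filter_not Finset.univ (· ∈ der G X)
    (fun g => Nat.card (fixedBy X g))
  have h4 : (Finset.univ.filter (· ∉ der G X)).card ≤
      ∑ g ∈ Finset.univ.filter (· ∉ der G X), Nat.card (fixedBy X g) := by
    rw [Finset.card_eq_sum_ones]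
    apply Finset.sum_le_sum
    intro g hg
    exact one_le_of_not_mem (Finset.mem_filter.mp hg).2
  have h5 := card_filter_not_mem (der G X)
  haveI : Nonempty (orbitRel.Quotient (der G X) X) := ⟨Quotient.mk'' (Classical.arbitrary X)⟩
  have hk : 0 < Nat.card (orbitRel.Quotient (der G X) X) := Nat.card_pos
  have hD : 0 < Nat.card (der G X) := Nat.card_pos
  rw [h2, h1] at h3
  have hk1 : Nat.card (orbitRel.Quotient (der G X) X) = 1 := by
    by_contra hne
    have : 2 ≤ Nat.card (orbitRel.Quotient (der G X) X) := by omega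
    nlinarith
  refine ⟨hk1, fun g hg => ?_⟩
  rw [hk1, one_mul] at h3
  have h6 : ∑ g ∈ Finset.univ.filter (· ∉ der G X), 1 =
      ∑ g ∈ Finset.univ.filter (· ∉ der G X), Nat.card (fixedBy X g) := by
    rw [← Finset.card_eq_sum_ones]; omega
  have h7 := (Finset.sum_eq_sum_iff_of_le (fun g hg =>
    one_le_of_not_mem (Finset.mem_filter.mp hg).2)).mp h6 g (by simp [hg])
  exact h7.symm

theorem der_transitive [Finite G] [Finite X] [IsPretransitive G X] :
    IsPretransitive (der G X) X := by
  rcases isEmpty_or_nonempty X with h | h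
  · exact ⟨fun x => (h.false x).elim⟩
  · rw [pretransitive_iff_subsingleton_quotient]
    exact (Nat.card_eq_one_iff_unique.mp core.1).1

theorem index_dvd_card {H Y : Type*} [Group H] [Finite H] [MulAction H Y] [Finite Y]
    (H₀ : Subgroup H) (h : ∀ y : Y, stabilizer H y ≤ H₀) : H₀.index ∣ Nat.card Y := by
  classical
  haveI := Fintype.ofFinite (orbitRel.Quotient H Y)
  rw [Nat.card_congr (selfEquivSigmaOrbitsQuotientStabilizer H Y), Nat.card_sigma]
  apply Finset.dvd_sum
  intro ω _
  exact Subgroup.index_dvd_of_le (h _)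

theorem index_dvd_card_of_invariant {H Y : Type*} [Group H] [Finite H] [MulAction H Y] [Finite Y]
    (H₀ : Subgroup H) (s : Set Y) (hs : ∀ h : H, ∀ y ∈ s, h • y ∈ s)
    (hst : ∀ y ∈ s, stabilizer H y ≤ H₀) : H₀.index ∣ Nat.card s := by
  let A : SubMulAction H Y := ⟨s, fun h {y} hy => hs h y hy⟩
  have h1 : H₀.index ∣ Nat.card A := by
    apply index_dvd_card
    intro y
    rw [SubMulAction.stabilizer_of_subMul]
    exact hst y y.2
  exact h1

instance der_normal : (der G X).Normal := by
  constructor
  intro n hn g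
  induction hn using Subgroup.closure_induction with
  | mem x hx =>
    apply Subgroup.subset_closure
    intro ω h
    apply hx (g⁻¹ • ω)
    rw [mul_smul, mul_smul] at h
    rw [eq_inv_smul_iff]
    exact h
  | one => simp
  | mul x y _ _ hx hy =>
    have e : g * (x * y) * g⁻¹ = (g * x * g⁻¹) * (g * y * g⁻¹) := by group
    rw [e]; exact Subgroup.mul_mem _ hx hy
  | inv x _ hx =>
    have e : g * x⁻¹ * g⁻¹ = (g * x * g⁻¹)⁻¹ := by group
    rw [e]; exact Subgroup.inv_mem _ hx

theorem mem_der_of_two_fixed [Finite G] [Finite X] [IsPretransitive G X] {g : G} {a b : X}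
    (ha : g • a = a) (hb : g • b = b) (hab : a ≠ b) : g ∈ der G X := by
  by_contra hg
  haveI : Nonempty X := ⟨a⟩
  have h1 := core.2 g hg
  have h2 := (Nat.card_eq_one_iff_unique.mp h1).1
  exact hab (congrArg Subtype.val (h2.elim (⟨a, ha⟩ : fixedBy X g) ⟨b, hb⟩))

/-- `[G_a : D_a] = [G : D]`. -/
theorem relIndex_stabilizer [Finite G] [Finite X] [IsPretransitive G X] (a : X) :
    ((der G X).subgroupOf (stabilizer G a)).index = (der G X).index := by
  have h1 : der G X ⊔ stabilizer G a = ⊤ := by
    rw [eq_top_iff]
    intro g _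
    haveI := der_transitive (G := G) (X := X)
    obtain ⟨d, hd⟩ := exists_smul_eq (der G X) a (g • a)
    have h2 : (d : G)⁻¹ * g ∈ stabilizer G a := by
      rw [mem_stabilizer_iff, mul_smul, ← hd]
      exact inv_smul_smul (d : G) a
    have e : g = (d : G) * ((d : G)⁻¹ * g) := by group
    rw [e]
    exact Subgroup.mul_mem _ (Subgroup.mem_sup_left d.2) (Subgroup.mem_sup_right h2)
  have h2 := Subgroup.relIndex_sup_right (stabilizer G a) (der G X)
  rw [sup_comm, h1, Subgroup.relIndex_top_right] at h2
  exact h2.symm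

/-- the index of the derangement subgroup divides the size of every `G_a`-invariant set of points
different from `a`. -/
theorem index_dvd_of_invariant [Finite G] [Finite X] [IsPretransitive G X] (a : X) (s : Set X)
    (hs : ∀ g : G, g • a = a → ∀ y ∈ s, g • y ∈ s) (ha : a ∉ s) :
    (der G X).index ∣ Nat.card s := by
  rw [← relIndex_stabilizer a]
  apply index_dvd_card_of_invariant
  · intro h y hy
    exact hs h h.2 y hy
  · intro y hy h hh
    exact mem_der_of_two_fixed h.2 hh (fun e => ha (e ▸ hy))

end Cfsg.Agent.Der
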