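import Cfsg.Agent.S5082
import Cfsg.Agent.S5083
import Cfsg.Agent.S5077

set_option autoImplicit false
open Cfsg Cfsg.FusionSystem

namespace Cfsg.Agent.Fus

section groups

variable {G : Type*} [Group G]

theorem pResidual_characteristic (p : ℕ) : (Cfsg.pResidual p G).Characteristic := by
  rw [Subgroup.characteristic_iff_map_le]
  intro φ
  rw [Cfsg.pResidual, MonoidHom.map_closure, Subgroup.closure_le]
  rintro _ ⟨g, hg, rfl⟩
  apply Subgroup.subset_closure
  change Nat.Coprime (orderOf (φ g)) p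
  rw [MulEquiv.orderOf_eq]
  exact hg

theorem pResidual_normal (p : ℕ) : (Cfsg.pResidual p G).Normal :=
  have := pResidual_characteristic (G := G) p
  inferInstance

theorem mem_pResidual_of_coprime {p : ℕ} {g : G} (hg : Nat.Coprime (orderOf g) p) :
    g ∈ Cfsg.pResidual p G := Subgroup.subset_closure hg

theorem map_pResidual_le {H : Type*} [Group H] (p : ℕ) (f : G →* H) :
    (Cfsg.pResidual p G).map f ≤ Cfsg.pResidual p H := by
  rw [Cfsg.pResidual, MonoidHom.map_closure, Subgroup.closure_le]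
  rintro _ ⟨g, hg, rfl⟩
  apply Subgroup.subset_closure
  exact Nat.Coprime.coprime_dvd_left (orderOf_map_dvd f g) hg

theorem exists_pow_mem_pResidual [Finite G] {p : ℕ} [hp : Fact p.Prime] (x : G) :
    ∃ k : ℕ, x ^ p ^ k ∈ Cfsg.pResidual p G := by
  refine ⟨(orderOf x).factorization p, mem_pResidual_of_coprime ?_⟩
  rw [orderOf_pow_of_dvd (pow_ne_zero _ hp.out.ne_zero) (Nat.ordProj_dvd _ _)]
  exact (Nat.coprime_ordCompl hp.out (orderOf_pos x).ne').symm

theorem sylow_sup_pResidual [Finite G] {p : ℕ} [hp : Fact p.Prime] (P : Sylow p G) :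
    (P : Subgroup G) ⊔ Cfsg.pResidual p G = ⊤ := by
  have hn := pResidual_normal (G := G) p
  rw [← Subgroup.index_eq_one]
  have h1 : ((P : Subgroup G) ⊔ Cfsg.pResidual p G).index ∣ (P : Subgroup G).index :=
    Subgroup.index_dvd_of_le le_sup_left
  have h2 : ((P : Subgroup G) ⊔ Cfsg.pResidual p G).index ∣ (Cfsg.pResidual p G).index :=
    Subgroup.index_dvd_of_le le_sup_right
  have hq : IsPGroup p (G ⧸ Cfsg.pResidual p G) := by
    intro x
    obtain ⟨x, rfl⟩ := QuotientGroup.mk_surjective x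
    obtain ⟨k, hk⟩ := exists_pow_mem_pResidual (p := p) x
    exact ⟨k, by rw [← QuotientGroup.mk_pow, QuotientGroup.eq_one_iff]; exact hk⟩
  obtain ⟨k, hk⟩ := IsPGroup.iff_card.mp hq
  rw [Subgroup.index_eq_card (Cfsg.pResidual p G), hk] at h2
  exact Nat.eq_one_of_dvd_coprimes
    (Nat.Coprime.pow_right k ((Nat.Prime.coprime_iff_not_dvd hp.out).mpr P.not_dvd_index).symm) h1 h2

end groups

variable {Ω : Type*} [Group Ω] {S : Subgroup Ω}

/-- A saturated fusion system is generated by `F_S(S)` and the groups `O^p(Aut_F(P))`. -/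
theorem le_of_pResidual [Finite S] {p : ℕ} [Fact p.Prime] (hS : IsPGroup p S) (F : FusionSystem S)
    (hF : F.IsSaturated p) (E : FusionSystem S)
    (h : ∀ P : Subgroup Ω, P ≤ S → ∀ β ∈ Cfsg.pResidual p (F.autGroup P),
      (β : MulAut P) ∈ E.autGroup P) : F ≤ E := by
  have hsat := (Cfsg.Agent.S5077.result p hS F).mp hF
  apply Cfsg.Agent.S5082.result p hS F hF
  intro P hP α hα
  have hPn : F.IsFullyNormalized P := by
    rcases hP with rfl | hP
    · exact Cfsg.Agent.S5083.fullyNormalized_top F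
    · exact hP.2.1
  have hPS := hPn.1
  obtain ⟨U, hU⟩ := (hsat.1 P hPn).2.2
  have : Finite P := finite_of_le hPS
  have : Finite (MulAut P) := inferInstance
  have h1 : (⟨α, hα⟩ : F.autGroup P) ∈ (U : Subgroup (F.autGroup P)) ⊔ Cfsg.pResidual p (F.autGroup P) := by
    rw [sylow_sup_pResidual]; exact Subgroup.mem_top _
  have := pResidual_normal (G := F.autGroup P) p
  rw [Subgroup.mem_sup_of_normal_right] at h1
  obtain ⟨u, hu, β, hβ, huβ⟩ := h1
  have e : α = (u : MulAut P) * (β : MulAut P) := by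
    have := congrArg Subtype.val huβ
    simpa using this.symm
  rw [e]
  refine Subgroup.mul_mem _ ?_ (h P hPS β hβ)
  rw [hU] at hu
  exact autInducedBy_le_autGroup E hPS hu

theorem hyperfocal_le (F : FusionSystem S) (p : ℕ) : F.hyperfocalSubgroup p ≤ S := by
  rw [hyperfocalSubgroup, Subgroup.closure_le]
  rintro _ ⟨P, α, x, hP, -, rfl⟩
  exact hP (P.mul_mem (P.inv_mem x.2) ((α : MulAut P) x).2)

theorem mem_hyperfocal (F : FusionSystem S) {p : ℕ} {P : Subgroup Ω} (hP : P ≤ S)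
    {α : F.autGroup P} (hα : α ∈ Cfsg.pResidual p (F.autGroup P)) (x : P) :
    (x : Ω)⁻¹ * ((α : MulAut P) x : P) ∈ F.hyperfocalSubgroup p :=
  Subgroup.subset_closure ⟨P, α, x, hP, hα, rfl⟩

/-- the homomorphism `Aut_F(P) → Aut_F(Q)` induced by an isomorphism of the system. -/
noncomputable def autCongr (F : FusionSystem S) {P Q : Subgroup Ω} {φ : P →* Ω} (hφ : φ ∈ F.Hom P)
    (hQ : φ.range = Q) : F.autGroup P →* F.autGroup Q where
  toFun β := ⟨MulAut.congr (isoOfMap φ (F.injective_of_mem hφ) hQ) β, autGroup_congr F hφ hQ β.2⟩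
  map_one' := by
    apply Subtype.ext
    exact map_one (MulAut.congr (isoOfMap φ (F.injective_of_mem hφ) hQ))
  map_mul' := by
    intro a b
    apply Subtype.ext
    exact map_mul (MulAut.congr (isoOfMap φ (F.injective_of_mem hφ) hQ)) _ _

theorem hyperfocal_transport (F : FusionSystem S) {p : ℕ} {P : Subgroup Ω} {φ : P →* Ω}
    (hφ : φ ∈ F.Hom P) {α : F.autGroup P} (hα : α ∈ Cfsg.pResidual p (F.autGroup P)) (x : P) :
    (φ x)⁻¹ * φ ((α : MulAut P) x) ∈ F.hyperfocalSubgroup p := by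
  have h1 : autCongr F hφ rfl α ∈ Cfsg.pResidual p (F.autGroup φ.range) :=
    map_pResidual_le p (autCongr F hφ rfl) ⟨α, hα, rfl⟩
  have h2 := mem_hyperfocal F (range_le F hφ) h1 (isoOfMap φ (F.injective_of_mem hφ) rfl x)
  rw [isoOfMap_apply_coe] at h2
  have e : (((autCongr F hφ rfl α : F.autGroup φ.range) : MulAut φ.range)
      (isoOfMap φ (F.injective_of_mem hφ) rfl x) : Ω) = φ ((α : MulAut P) x) := by
    show ((MulAut.congr (isoOfMap φ (F.injective_of_mem hφ) rfl) (α : MulAut P))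
      (isoOfMap φ (F.injective_of_mem hφ) rfl x) : Ω) = _
    simp [MulAut.congr, isoOfMap_apply_coe]
  rw [e] at h2
  exact h2

theorem hyperfocal_conj_mem (F : FusionSystem S) (p : ℕ) {s : Ω} (hs : s ∈ S) {y : Ω}
    (hy : y ∈ F.hyperfocalSubgroup p) : s * y * s⁻¹ ∈ F.hyperfocalSubgroup p := by
  have hle : F.hyperfocalSubgroup p ≤ (F.hyperfocalSubgroup p).comap (MulAut.conj s).toMonoidHom := by
    conv_lhs => rw [hyperfocalSubgroup]
    rw [Subgroup.closure_le]
    rintro _ ⟨P, α, x, hP, hα, rfl⟩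
    have h1 := hyperfocal_transport F (F.conj_mem hP hs) hα x
    rw [conjHom_apply, conjHom_apply] at h1
    show s * ((x : Ω)⁻¹ * ((α : MulAut P) x : P)) * s⁻¹ ∈ F.hyperfocalSubgroup p
    have e : s * ((x : Ω)⁻¹ * ((α : MulAut P) x : P)) * s⁻¹
        = (s * x * s⁻¹)⁻¹ * (s * ((α : MulAut P) x : P) * s⁻¹) := by group
    rw [e]; exact h1
  exact hle hy

end Cfsg.Agent.Fus
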