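import Mathlib
import Cfsg.Agent.S0007

set_option autoImplicit false

namespace Cfsg.Agent.IndexInf

theorem index_finset_inf {G : Type*} [Group G] [Finite G] {ι : Type*} [DecidableEq ι]
    (s : Finset ι) (f : ι → Subgroup G)
    (hcop : ∀ i ∈ s, ∀ j ∈ s, i ≠ j → ((f i).index).Coprime (f j).index) :
    (s.inf f).index = ∏ i ∈ s, (f i).index := by
  induction s using Finset.induction_on with
  | empty => simp
  | insert a s ha ih =>
    rw [Finset.inf_insert, Finset.prod_insert ha]
    have ih' := ih (fun i hi j hj =>
      hcop i (Finset.mem_insert_of_mem hi) j (Finset.mem_insert_of_mem hj))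
    rw [S0007.index_inf_of_coprime, ih']
    rw [ih']
    apply Nat.Coprime.prod_right
    intro j hj
    exact hcop a (Finset.mem_insert_self a s) j (Finset.mem_insert_of_mem hj)
      (by rintro rfl; exact ha hj)

theorem normal_finset_inf {G : Type*} [Group G] {ι : Type*} [DecidableEq ι]
    (s : Finset ι) (f : ι → Subgroup G) (h : ∀ i ∈ s, (f i).Normal) : (s.inf f).Normal := by
  induction s using Finset.induction_on with
  | empty => simpa using (inferInstance : (⊤ : Subgroup G).Normal)
  | insert a s ha ih =>
    rw [Finset.inf_insert]
    haveI := h a (Finset.mem_insert_self a s)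
    haveI := ih (fun i hi => h i (Finset.mem_insert_of_mem hi))
    infer_instance

end Cfsg.Agent.IndexInf
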