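import Mathlib
import Cfsg.Prelude.Def_LieExceptional
import Cfsg.Agent.Lib.Helper1.FrobD
import Cfsg.Agent.Lib.Helper1.Cores

set_option autoImplicit false
open Pointwise

namespace Cfsg.Agent.Zass

open MulAction Cfsg.Agent.Lib.Helper1

theorem mem_conj_smul {X : Type*} [Group X] (g x : X) (B : Subgroup X) :
    x ∈ MulAut.conj g • B ↔ g⁻¹ * x * g ∈ B := by
  rw [Subgroup.mem_pointwise_smul_iff_inv_smul_mem]
  simp [MulAut.smul_def]

/-- Frobenius kernel for a point stabiliser which is a Frobenius complement. -/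
theorem frob_orbit {X Ω : Type*} [Group X] [Finite X] [MulAction X Ω] (b : Ω)
    (hF : Cfsg.IsFrobeniusComplement (stabilizer X b)) :
    ∃ M : Subgroup X, M.Normal ∧ M.Characteristic ∧ M ⊓ stabilizer X b = ⊥ ∧
      (∀ g : X, ∃ m ∈ M, m • b = g • b) ∧ (∀ m ∈ M, ∀ g : X, m • (g • b) = g • b → m = 1) ∧
      (∀ x : X, (∀ g : X, x • (g • b) ≠ g • b) → x ∈ M) ∧
      (∀ N : Subgroup X, N.Normal → M ≤ N ∨ N ≤ M) := by
  obtain ⟨M, hMset, hMn, hMc⟩ := FrobC.frobenius_theorem _ hF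
  haveI := hMn
  refine ⟨M, hMn, FrobD.kernel_characteristic hF hMc, disjoint_iff.mp hMc.disjoint, ?_, ?_, ?_, ?_⟩
  · intro g
    obtain ⟨⟨m, s⟩, hms⟩ := hMc.2 g
    refine ⟨m.1, m.2, ?_⟩
    have hms' : m.1 * s.1 = g := hms
    rw [← hms', mul_smul]
    congr 1
    exact s.2.symm
  · intro m hm g hfix
    have h1 : m ∈ Cfsg.frobeniusKernel (stabilizer X b) := by rw [← hMset]; exact hm
    rcases h1 with h1 | h1
    · exact h1
    · exfalso
      apply h1 g
      rw [mem_conj_smul, mem_stabilizer_iff, mul_smul, mul_smul, hfix, inv_smul_smul]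
  · intro x hx
    have : x ∈ (M : Set X) := by
      rw [hMset]
      right
      intro g hg
      rw [mem_conj_smul, mem_stabilizer_iff, mul_smul, mul_smul, inv_smul_eq_iff] at hg
      exact hx g hg
    exact this
  · intro N hN
    exact FrobD.normal_comparable hF hMc N hN

theorem finite_of {G Ω : Type*} [Group G] [MulAction G Ω] [Finite Ω]
    (hZ : Cfsg.IsZassenhausGroup G Ω) : Finite G := by
  haveI := hZ.1
  exact Finite.of_injective (MulAction.toPermHom G Ω) MulAction.toPerm_injective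

theorem normal_trans {G Ω : Type*} [Group G] [MulAction G Ω]
    (hZ : Cfsg.IsZassenhausGroup G Ω) (N : Subgroup G) [N.Normal] (hN : N ≠ ⊥) :
    IsPretransitive N Ω := by
  obtain ⟨hfaith, h2t, -, -, -⟩ := hZ
  haveI : IsPreprimitive G Ω := isPreprimitive_of_is_two_pretransitive h2t
  apply IsQuasiPreprimitive.isPretransitive_of_normal
  intro hfix
  apply hN
  rw [eq_bot_iff]
  intro n hn
  rw [Subgroup.mem_bot]
  apply hfaith.eq_of_smul_eq_smul
  intro c
  rw [one_smul]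
  have : c ∈ fixedPoints N Ω := by rw [hfix]; trivial
  exact this ⟨n, hn⟩

/-- The Frobenius kernel of a point stabiliser of a Zassenhaus group. -/
theorem kernel {G Ω : Type*} [Group G] [Finite G] [MulAction G Ω]
    (hZ : Cfsg.IsZassenhausGroup G Ω) {a b : Ω} (hab : a ≠ b) :
    ∃ K : Subgroup G, K ≤ stabilizer G a ∧
      (∀ g ∈ stabilizer G a, ∀ k ∈ K, g * k * g⁻¹ ∈ K) ∧
      (∀ c, c ≠ a → ∃ k ∈ K, k • b = c) ∧
      (∀ k ∈ K, ∀ c, c ≠ a → k • c = c → k = 1) ∧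
      (∀ x ∈ stabilizer G a, (∀ c, c ≠ a → x • c ≠ c) → x ∈ K) ∧
      (∀ N : Subgroup G, N.Normal → (∃ n ∈ N, n ≠ 1 ∧ n • a = a ∧ n • b = b) → K ≤ N) := by
  obtain ⟨hfaith, h2t, h3, ⟨g₀, hg1, a', b', hab', ha', hb'⟩, hnoreg⟩ := hZ
  have h2 : ∀ {a b c d : Ω}, a ≠ b → c ≠ d → ∃ g : G, g • a = c ∧ g • b = d :=
    is_two_pretransitive_iff.mp h2t
  -- a nonidentity element fixing a, b
  obtain ⟨γ, hγa, hγb⟩ := h2 hab' hab
  have hea : (γ * g₀ * γ⁻¹) • a = a := by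
    rw [← hγa, mul_smul, mul_smul, inv_smul_smul, ha']
  have heb : (γ * g₀ * γ⁻¹) • b = b := by
    rw [← hγb, mul_smul, mul_smul, inv_smul_smul, hb']
  have he1 : γ * g₀ * γ⁻¹ ≠ 1 := by
    intro h
    apply hg1
    have : g₀ = γ⁻¹ * (γ * g₀ * γ⁻¹) * γ := by group
    rw [this, h]; group
  -- a third point
  obtain ⟨c₀, hc₀⟩ : ∃ c : Ω, (γ * g₀ * γ⁻¹) • c ≠ c := by
    by_contra hcon
    push Not at hcon
    apply he1
    apply hfaith.eq_of_smul_eq_smul
    intro c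
    rw [hcon, one_smul]
  have hc₀a : c₀ ≠ a := by rintro rfl; exact hc₀ hea
  have hc₀b : c₀ ≠ b := by rintro rfl; exact hc₀ heb
  have hF : Cfsg.IsFrobeniusComplement (stabilizer (stabilizer G a) b) := by
    refine ⟨?_, ?_, ?_⟩
    · intro h
      have : (⟨γ * g₀ * γ⁻¹, hea⟩ : stabilizer G a) ∈ stabilizer (stabilizer G a) b := heb
      rw [h, Subgroup.mem_bot] at this
      exact he1 (congrArg Subtype.val this)
    · intro h
      obtain ⟨g, hga, hgb⟩ := h2 hab (Ne.symm hc₀a)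
      have : (⟨g, hga⟩ : stabilizer G a) ∈ stabilizer (stabilizer G a) b := by rw [h]; trivial
      have h' : g • b = b := this
      exact hc₀b (hgb.symm.trans h')
    · intro g hg
      rw [eq_bot_iff]
      intro x hx
      rw [Subgroup.mem_bot]
      have hx1 : x.1 • b = b := hx.1
      have hx2 := (mem_conj_smul g x _).mp hx.2
      have hx3 : (g⁻¹ * x * g).1 • b = b := hx2
      have hx4 : x.1 • (g.1 • b) = g.1 • b := by
        have : (g.1⁻¹ * x.1 * g.1) • b = b := hx3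
        rw [mul_smul, mul_smul, inv_smul_eq_iff] at this
        exact this
      have hgb : g.1 • b ≠ b := hg
      have hga : g.1 • b ≠ a := by
        intro h
        apply hab
        have h5 : g.1 • a = a := g.2
        exact (smul_left_cancel g.1 (h.trans h5.symm)).symm
      apply Subtype.ext
      exact h3 x.1 a b (g.1 • b) hab hgb.symm hga.symm x.2 hx1 hx4
  obtain ⟨M, hMn, -, hMd, hMt, hMs, hMin, hMcmp⟩ := frob_orbit b hF
  have hreach : ∀ c, c ≠ a → ∃ g : stabilizer G a, g • b = c := by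
    intro c hc
    obtain ⟨g, hga, hgb⟩ := h2 hab (Ne.symm hc)
    exact ⟨⟨g, hga⟩, hgb⟩
  refine ⟨M.map (stabilizer G a).subtype, Subgroup.map_subtype_le _, ?_, ?_, ?_, ?_, ?_⟩
  · rintro g hg _ ⟨k, hk, rfl⟩
    exact ⟨⟨g, hg⟩ * k * ⟨g, hg⟩⁻¹, hMn.conj_mem k hk _, rfl⟩
  · intro c hc
    obtain ⟨g, hg⟩ := hreach c hc
    obtain ⟨m, hm, hmb⟩ := hMt g
    exact ⟨m.1, ⟨m, hm, rfl⟩, hmb.trans hg⟩
  · rintro _ ⟨k, hk, rfl⟩ c hc hfix
    obtain ⟨g, rfl⟩ := hreach c hc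
    have := hMs k hk g hfix
    rw [this]; rfl
  · intro x hx hfree
    refine ⟨⟨x, hx⟩, hMin _ ?_, rfl⟩
    intro g
    apply hfree (g.1 • b)
    intro h
    apply hab
    have h5 : g.1 • a = a := g.2
    exact (smul_left_cancel g.1 (h.trans h5.symm)).symm
  · rintro N hN ⟨n, hnN, hn1, hna, hnb⟩
    rcases hMcmp (N.subgroupOf (stabilizer G a)) inferInstance with h | h
    · rintro _ ⟨k, hk, rfl⟩
      exact h hk
    · exfalso
      have h1 : (⟨n, hna⟩ : stabilizer G a) ∈ M ⊓ stabilizer (stabilizer G a) b :=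
        ⟨h (Subgroup.mem_subgroupOf.mpr hnN), hnb⟩
      rw [hMd, Subgroup.mem_bot] at h1
      exact hn1 (congrArg Subtype.val h1)

theorem exists_two_fixed {G Ω : Type*} [Group G] [Finite G] [MulAction G Ω]
    (hZ : Cfsg.IsZassenhausGroup G Ω) (N : Subgroup G) [hNn : N.Normal] (hN : N ≠ ⊥) :
    ∃ n ∈ N, n ≠ 1 ∧ ∃ a b : Ω, a ≠ b ∧ n • a = a ∧ n • b = b := by
  by_contra hcon
  push Not at hcon
  haveI htr := normal_trans hZ N hN
  obtain ⟨hfaith, h2t, h3, ⟨g₀, hg1, a', b', hab', ha', hb'⟩, hnoreg⟩ := hZ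
  obtain ⟨a, ha⟩ := hnoreg N hNn htr
  obtain ⟨b, hb⟩ : ∃ b : Ω, b ≠ a := by
    by_cases h : a' = a
    · exact ⟨b', fun h' => hab' (h.trans h'.symm)⟩
    · exact ⟨a', h⟩
  have hF : Cfsg.IsFrobeniusComplement (stabilizer N a) := by
    refine ⟨ha, ?_, ?_⟩
    · intro h
      obtain ⟨g, hg⟩ := exists_smul_eq N a b
      have : g ∈ stabilizer N a := by rw [h]; trivial
      exact hb (hg.symm.trans this)
    · intro g hg
      rw [eq_bot_iff]
      intro x hx
      rw [Subgroup.mem_bot]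
      by_contra hx1
      have hx2 := (mem_conj_smul g x _).mp hx.2
      have hx3 : (g.1⁻¹ * x.1 * g.1) • a = a := hx2
      rw [mul_smul, mul_smul, inv_smul_eq_iff] at hx3
      have hga : g.1 • a ≠ a := hg
      exact hcon x.1 x.2 (fun h => hx1 (Subtype.ext h)) a (g.1 • a) hga.symm hx.1 hx3
  obtain ⟨M, hMn, hMch, hMd, hMt, hMs, -, -⟩ := frob_orbit a hF
  haveI := hMch
  have hM'n : (M.map N.subtype).Normal := map_characteristic_normal M
  have hM't : IsPretransitive (M.map N.subtype) Ω := by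
    have key : ∀ c : Ω, ∃ m : (M.map N.subtype), m • a = c := by
      intro c
      obtain ⟨g, hg⟩ := exists_smul_eq N a c
      obtain ⟨m, hm, hma⟩ := hMt g
      exact ⟨⟨m.1, ⟨m, hm, rfl⟩⟩, hma.trans hg⟩
    constructor
    intro x y
    obtain ⟨m₁, rfl⟩ := key x
    obtain ⟨m₂, rfl⟩ := key y
    exact ⟨m₂ * m₁⁻¹, by rw [mul_smul, inv_smul_smul]⟩
  obtain ⟨c, hc⟩ := hnoreg _ hM'n hM't
  apply hc
  rw [eq_bot_iff]
  rintro ⟨_, ⟨m, hm, rfl⟩⟩ hfix
  rw [Subgroup.mem_bot]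
  obtain ⟨g, rfl⟩ := exists_smul_eq N a c
  have := hMs m hm g hfix
  apply Subtype.ext
  show (m : G) = 1
  rw [this]; rfl

theorem exists_two_fixed' {G Ω : Type*} [Group G] [Finite G] [MulAction G Ω]
    (hZ : Cfsg.IsZassenhausGroup G Ω) (N : Subgroup G) [hNn : N.Normal] (hN : N ≠ ⊥)
    {a b : Ω} (hab : a ≠ b) : ∃ n ∈ N, n ≠ 1 ∧ n • a = a ∧ n • b = b := by
  obtain ⟨n, hn, hn1, a', b', hab', ha', hb'⟩ := exists_two_fixed hZ N hN
  obtain ⟨γ, hγa, hγb⟩ := (is_two_pretransitive_iff.mp hZ.2.1) hab' hab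
  refine ⟨γ * n * γ⁻¹, hNn.conj_mem n hn γ, ?_, ?_, ?_⟩
  · intro h
    apply hn1
    have : n = γ⁻¹ * (γ * n * γ⁻¹) * γ := by group
    rw [this, h]; group
  · rw [← hγa, mul_smul, mul_smul, inv_smul_smul, ha']
  · rw [← hγb, mul_smul, mul_smul, inv_smul_smul, hb']

theorem normal_two_trans {G Ω : Type*} [Group G] [Finite G] [MulAction G Ω]
    (hZ : Cfsg.IsZassenhausGroup G Ω) (N : Subgroup G) [hNn : N.Normal] (hN : N ≠ ⊥) :
    IsMultiplyPretransitive N Ω 2 := by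
  haveI htr := normal_trans hZ N hN
  rw [is_two_pretransitive_iff]
  intro x y x' y' hxy hxy'
  obtain ⟨K, -, -, hKt, -, -, hKN⟩ := kernel hZ hxy'
  have hKN' := hKN N hNn (exists_two_fixed' hZ N hN hxy')
  obtain ⟨n₁, hn₁⟩ := exists_smul_eq N x x'
  have hne : n₁ • y ≠ x' := by
    intro h
    exact hxy (smul_left_cancel n₁ (hn₁.trans h.symm))
  obtain ⟨K₂, hK₂a, -, hK₂t, -, -, hK₂N⟩ := kernel hZ hne.symm
  have hK₂N' := hK₂N N hNn (exists_two_fixed' hZ N hN hne.symm)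
  obtain ⟨k, hk, hky⟩ := hK₂t y' hxy'.symm
  refine ⟨⟨k, hK₂N' hk⟩ * n₁, ?_, ?_⟩
  · rw [mul_smul, hn₁]
    exact hK₂a hk
  · rw [mul_smul]
    exact hky

end Cfsg.Agent.Zass
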